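import Cfsg.Prelude.Def_Balance
import Cfsg.Agent.Lib.Components.Balance2
import Cfsg.Agent.Lib.Coprime.Action
import Cfsg.Agent.Lib.CoprimeGen.OddGeneration

/-!
# The signalizer functor of a core-separated pair of four-groups
-/

set_option autoImplicit false
set_option linter.unusedSectionVars false
set_option linter.style.haveILetI false

namespace Cfsg.Agent.Lib.CoreSep

open Cfsg Cfsg.Agent.Lib.Components Subgroup
open scoped commutatorElement

/-! ### General facts -/

theorem eq_bot_of_centralizes {M : Type*} [Group M] [Finite M] (hO : pPrimeCore 2 M = ⊥) {t : M}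
    (ht : orderOf t = 2) {W : Subgroup M} (hW : W ≤ centralizerPPrimeCore 2 t)
    (hloc : ∀ E : Subgroup M, IsComponent E → t ∈ normalizer (E : Set M) →
      W ≤ normalizer (E : Set M) → t ∉ centralizer (E : Set M) → W ≤ centralizer (E : Set M)) :
    W = ⊥ := by
  haveI : Fact (Nat.Prime 2) := ⟨Nat.prime_two⟩
  have hcomp : ∀ E : Subgroup M, IsComponent E → W ≤ centralizer (E : Set M) := by
    intro E hE
    by_cases h1 : t ∈ centralizer (E : Set M)
    · exact hW.trans (centralizerPPrimeCore_le_centralizer_of_centralizing hE hO h1)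
    by_cases h2 : t ∈ normalizer (E : Set M)
    · exact hloc E hE h2 (hW.trans (centralizerPPrimeCore_le_normalizer hE hO ht h2)) h1
    · exact hW.trans (centralizerPPrimeCore_le_centralizer_of_moving hE hO ht h2)
  have hle : W ≤ pCore 2 M := by
    rw [← fittingSubgroup_eq_pCore 2 hO]
    refine le_trans ?_ centralizer_genFitting_le_fittingSubgroup
    rw [generalizedFittingSubgroup, le_centralizer_iff]
    refine sup_le (layer_le_iff.mpr fun L hL => le_centralizer_iff.mp (hcomp L hL)) ?_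
    rw [fittingSubgroup_eq_pCore 2 hO, le_centralizer_iff]
    exact hW.trans (centralizerPPrimeCore_le_centralizer_pCore ht)
  exact eq_bot_of_isPGroup_of_coprime ((pCore_isPGroup 2).to_le hle)
    ((coprime_card_centralizerPPrimeCore t).coprime_dvd_left (card_dvd_of_le hW))

/-- A commutator with an element centralising `U`, formed with an element normalising `U`. -/
theorem comm_mem_centralizer {K : Type*} [Group K] {U : Set K} {x y : K}
    (hx : x ∈ centralizer U) (hy : ∀ v ∈ U, y⁻¹ * v * y ∈ U) :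
    y * x * y⁻¹ * x⁻¹ ∈ centralizer U := by
  refine mul_mem (mem_centralizer_iff.mpr fun v hv => ?_) (inv_mem hx)
  have h := mem_centralizer_iff.mp hx _ (hy v hv)
  calc v * (y * x * y⁻¹) = y * ((y⁻¹ * v * y) * x) * y⁻¹ := by group
    _ = y * (x * (y⁻¹ * v * y)) * y⁻¹ := by rw [h]
    _ = y * x * y⁻¹ * v := by group

theorem conj_mem_of_normalizer {K : Type*} [Group K] {E : Subgroup K} {y : K}
    (hy : y ∈ normalizer (E : Set K)) {v : K} (hv : v ∈ E) : y⁻¹ * v * y ∈ E :=
  (mem_normalizer_iff''.mp hy v).mp hv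

theorem mul_conj_inv_mem {K : Type*} [Group K] {N : Subgroup K} (hN : N.Normal) {x : K} (y : K)
    (hx : x ∈ centralizer (N : Set K)) : x * y * x⁻¹ * y⁻¹ ∈ centralizer (N : Set K) := by
  haveI := hN
  rw [mul_assoc, mul_assoc, ← mul_assoc y]
  exact mul_mem hx ((inferInstance : (centralizer (N : Set K)).Normal).conj_mem _ (inv_mem hx) y)

variable {G : Type*} [Group G] [Finite G]

/-- The quotient of a centralizer by its core. -/
abbrev cq (C : Subgroup G) : ↥C →* ↥C ⧸ pPrimeCore 2 ↥C := QuotientGroup.mk' _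

theorem orderOf_cq {C : Subgroup G} {a : G} (ha : a ∈ C) (ha2 : orderOf a = 2) :
    orderOf (cq C ⟨a, ha⟩) = 2 := by
  haveI : Fact (Nat.Prime 2) := ⟨Nat.prime_two⟩
  have h2 : orderOf (⟨a, ha⟩ : ↥C) = 2 := by rw [Subgroup.orderOf_mk, ha2]
  refine orderOf_eq_prime ?_ ?_
  · have h4 := pow_orderOf_eq_one (⟨a, ha⟩ : ↥C)
    rw [h2] at h4
    rw [← map_pow, h4, map_one]
  · intro h
    have h1 := orderOf_dvd_natCard (pPrimeCore 2 ↥C) ((QuotientGroup.eq_one_iff _).mp h)
    have h3 := (pPrimeCore_coprime (G := ↥C) 2).coprime_dvd_left h1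
    rw [h2] at h3
    norm_num at h3

theorem map_le_core {C : Subgroup G} {a : G} (ha : a ∈ C) (ha2 : orderOf a = 2) {W : Subgroup G}
    (hW : W ≤ centralizerPPrimeCore 2 a) :
    (W.subgroupOf C).map (cq C) ≤ centralizerPPrimeCore 2 (cq C ⟨a, ha⟩) := by
  haveI : Fact (Nat.Prime 2) := ⟨Nat.prime_two⟩
  have h2 : orderOf (⟨a, ha⟩ : ↥C) = 2 := by rw [Subgroup.orderOf_mk, ha2]
  refine le_trans (Subgroup.map_mono ?_)
    (map_centralizerPPrimeCore_quotient_le (pPrimeCore 2 ↥C) (pPrimeCore_coprime 2) h2)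
  exact le_trans (fun w hw => hW hw) (subgroupOf_centralizerPPrimeCore_le ha)

/-! ### The functor -/

/-- The core of the centralizer of a subgroup. -/
def qCore (A : Subgroup G) : Subgroup G :=
  (oddCore ↥(centralizer (A : Set G))).map (centralizer (A : Set G)).subtype

theorem qCore_le (A : Subgroup G) : qCore A ≤ centralizer (A : Set G) := map_subtype_le _

theorem qCore_conj {A : Subgroup G} {u x : G} (hu : u ∈ centralizer (A : Set G))
    (hx : x ∈ qCore A) : u * x * u⁻¹ ∈ qCore A := by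
  obtain ⟨y, hy, rfl⟩ := hx
  exact ⟨⟨u, hu⟩ * y * ⟨u, hu⟩⁻¹, (pPrimeCore_normal 2 _).conj_mem y hy _, rfl⟩

/-- One of the two factors. -/
def part (A : Subgroup G) (a : G) : Subgroup G :=
  ⁅centralizerPPrimeCore 2 a, A⁆ ⊔ (centralizerPPrimeCore 2 a ⊓ qCore A)

/-- The image of `A` centralises `E`. -/
def Cent (A : Subgroup G) (C : Subgroup G) (E : Subgroup (↥C ⧸ pPrimeCore 2 ↥C)) : Prop :=
  ∀ α : ↥C, (α : G) ∈ A → cq C α ∈ centralizer (E : Set (↥C ⧸ pPrimeCore 2 ↥C))

/-- What is used of a core-separated pair. -/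
structure Pair (A B : Subgroup G) : Prop where
  comm : ∀ x ∈ A ⊔ B, ∀ y ∈ A ⊔ B, x * y = y * x
  sq : ∀ x ∈ A ⊔ B, x * x = 1
  cardA : Nat.card A = 4
  cardB : Nat.card B = 4
  sep : ∀ e ∈ A ⊔ B, e ≠ 1 →
    ∀ E : Subgroup (↥(centralizer ({e} : Set G)) ⧸ pPrimeCore 2 ↥(centralizer ({e} : Set G))),
      IsComponent E → Cent A (centralizer ({e} : Set G)) E ∨ Cent B (centralizer ({e} : Set G)) E

variable {A B : Subgroup G}

theorem Pair.symm (h : Pair A B) : Pair B A where
  comm x hx y hy := h.comm x (sup_comm B A ▸ hx) y (sup_comm B A ▸ hy)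
  sq x hx := h.sq x (sup_comm B A ▸ hx)
  cardA := h.cardB
  cardB := h.cardA
  sep e he he1 E hE := (h.sep e (sup_comm B A ▸ he) he1 E hE).symm

theorem Pair.le_centralizer (h : Pair A B) {b : G} (hb : b ∈ A ⊔ B) :
    A ⊔ B ≤ centralizer ({b} : Set G) := fun x hx =>
  mem_centralizer_singleton_iff.mpr (h.comm x hx b hb)

theorem Pair.orderOf_eq (h : Pair A B) {a : G} (ha : a ∈ A ⊔ B) (ha1 : a ≠ 1) : orderOf a = 2 :=
  haveI : Fact (Nat.Prime 2) := ⟨Nat.prime_two⟩
  orderOf_eq_prime (by rw [pow_two]; exact h.sq a ha) ha1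

theorem Pair.isPGroup (h : Pair A B) : IsPGroup 2 A :=
  IsPGroup.of_card (n := 2) (by rw [h.cardA]; norm_num)

theorem Pair.solvable (h : Pair A B) : Group.IsSolvable A :=
  Group.isSolvable_of_comm fun a b =>
    Subtype.ext (h.comm a (mem_sup_left a.2) b (mem_sup_left b.2))

theorem Pair.le_normalizer_core (h : Pair A B) {a : G} (ha : a ∈ A ⊔ B) :
    A ⊔ B ≤ normalizer (centralizerPPrimeCore 2 a : Set G) :=
  (h.le_centralizer ha).trans (centralizer_le_normalizer_centralizerPPrimeCore a)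

theorem odd_card_core (a : G) : Odd (Nat.card ↥(centralizerPPrimeCore 2 a)) :=
  haveI : Fact (Nat.Prime 2) := ⟨Nat.prime_two⟩
  Nat.coprime_two_right.mp (coprime_card_centralizerPPrimeCore a)

theorem Pair.part_le_core (h : Pair A B) {a : G} (ha : a ∈ A ⊔ B) :
    part A a ≤ centralizerPPrimeCore 2 a :=
  sup_le (Coprime.commutator_le_of_le_normalizer (le_sup_left.trans (h.le_normalizer_core ha)))
    inf_le_left

/-- The pieces lie in the core of the centralizer. -/
theorem Pair.piece_le (h : Pair A B) {a : G} (ha : a ∈ A ⊔ B) (ha1 : a ≠ 1) {e : G} (he : e ∈ A)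
    (he1 : e ≠ 1) :
    ⁅centralizerPPrimeCore 2 a, A⁆ ⊓ centralizer (A : Set G) ⊓
        ⁅⁅centralizerPPrimeCore 2 a, A⁆ ⊓ centralizer ({e} : Set G), A⁆ ≤ qCore A := by
  haveI : Fact (Nat.Prime 2) := ⟨Nat.prime_two⟩
  set Y := ⁅centralizerPPrimeCore 2 a, A⁆ with hYdef
  set P := Y ⊓ centralizer (A : Set G) ⊓ ⁅Y ⊓ centralizer ({e} : Set G), A⁆ with hPdef
  set H := centralizer (A : Set G) with hHdef
  set Ce := centralizer ({e} : Set G) with hCedef
  have hea : e ∈ A ⊔ B := mem_sup_left he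
  have ha2 := h.orderOf_eq ha ha1
  have haH : a ∈ H := mem_centralizer_iff.mpr fun x hx => h.comm x (mem_sup_left hx) a ha
  have hHCe : H ≤ Ce := centralizer_le (Set.singleton_subset_iff.mpr he)
  have hACe : A ⊔ B ≤ Ce := h.le_centralizer hea
  have hYO : Y ≤ centralizerPPrimeCore 2 a :=
    Coprime.commutator_le_of_le_normalizer (le_sup_left.trans (h.le_normalizer_core ha))
  have hOH : pPrimeCore 2 (↥H ⧸ pPrimeCore 2 ↥H) = ⊥ := pPrimeCore_quotient_eq_bot 2
  have hOK : pPrimeCore 2 (↥Ce ⧸ pPrimeCore 2 ↥Ce) = ⊥ := pPrimeCore_quotient_eq_bot 2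
  have hPO : P ≤ centralizerPPrimeCore 2 a := inf_le_left.trans (inf_le_left.trans hYO)
  have hPH : P ≤ H := inf_le_left.trans inf_le_right
  have htH := orderOf_cq (C := H) haH ha2
  have htK := orderOf_cq (C := Ce) (hACe ha) ha2
  -- the map `H → C(e) / O(C(e))`
  set f : ↥H →* ↥Ce ⧸ pPrimeCore 2 ↥Ce := (cq Ce).comp (inclusion hHCe) with hfdef
  set N : Subgroup (↥Ce ⧸ pPrimeCore 2 ↥Ce) :=
    centralizer (generalizedFittingSubgroup (↥Ce ⧸ pPrimeCore 2 ↥Ce) : Set _) with hNdef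
  -- the invariant sets of components
  set U : Prop → Set (↥Ce ⧸ pPrimeCore 2 ↥Ce) := fun b => {v | ∃ F : Subgroup (↥Ce ⧸ pPrimeCore 2 ↥Ce),
    IsComponent F ∧ (Cent A Ce F ↔ b) ∧ v ∈ F} with hUdef
  have hUinv : ∀ (b : Prop) (g : ↥H), ∀ v ∈ U b, f g * v * (f g)⁻¹ ∈ U b := by
    rintro b g v ⟨F, hF, hFb, hv⟩
    refine ⟨F.map (MulAut.conj (f g)).toMonoidHom, IsComponent.map_conj hF _, ?_, v, hv, rfl⟩
    refine Iff.trans ?_ hFb
    have hga : ∀ α : ↥Ce, (α : G) ∈ A → f g * cq Ce α = cq Ce α * f g := by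
      intro α hα
      show cq Ce _ * cq Ce α = cq Ce α * cq Ce _
      rw [← map_mul, ← map_mul]
      exact congrArg _ (Subtype.ext (mem_centralizer_iff.mp g.2 _ hα).symm)
    constructor
    · intro hc α hα
      refine mem_centralizer_iff.mpr fun w hw => ?_
      have hcw := mem_centralizer_iff.mp (hc α hα) (f g * w * (f g)⁻¹) ⟨w, hw, rfl⟩
      have hg := hga α hα
      calc w * cq Ce α = (f g)⁻¹ * ((f g * w * (f g)⁻¹) * (f g * cq Ce α)) := by group
        _ = (f g)⁻¹ * ((f g * w * (f g)⁻¹) * cq Ce α) * f g := by rw [hg]; group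
        _ = (f g)⁻¹ * cq Ce α * f g * w := by rw [hcw]; group
        _ = (f g)⁻¹ * (f g * cq Ce α) * w := by rw [hg]; group
        _ = cq Ce α * w := by group
    · intro hc α hα
      refine mem_centralizer_iff.mpr ?_
      rintro _ ⟨w, hw, rfl⟩
      show f g * w * (f g)⁻¹ * cq Ce α = cq Ce α * (f g * w * (f g)⁻¹)
      have hcw := mem_centralizer_iff.mp (hc α hα) w hw
      have hg := hga α hα
      have hg' : (f g)⁻¹ * cq Ce α = cq Ce α * (f g)⁻¹ :=
        (Commute.inv_left (hg : Commute (f g) (cq Ce α))).eq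
      calc f g * w * (f g)⁻¹ * cq Ce α = f g * (w * cq Ce α) * (f g)⁻¹ := by
            rw [mul_assoc _ (f g)⁻¹, hg']; group
        _ = (f g * cq Ce α) * w * (f g)⁻¹ := by rw [hcw]; group
        _ = _ := by rw [hg]; group
  have hUinv' : ∀ (b : Prop) (g : ↥H), ∀ v ∈ U b, (f g)⁻¹ * v * f g ∈ U b := fun b g v hv => by
    have := hUinv b g⁻¹ v hv
    rwa [map_inv, inv_inv] at this
  -- a piece centralises the first set and the two-core
  have hpC : ∀ y ∈ ⁅Y ⊓ Ce, A⁆, ∃ hy : y ∈ Ce, cq Ce ⟨y, hy⟩ ∈ centralizer (U True) ∧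
      cq Ce ⟨y, hy⟩ ∈ centralizer (pCore 2 (↥Ce ⧸ pPrimeCore 2 ↥Ce) : Set _) := by
    have hle : ⁅Y ⊓ Ce, A⁆ ≤ ((centralizer (U True) ⊓
        centralizer (pCore 2 (↥Ce ⧸ pPrimeCore 2 ↥Ce) : Set _)).comap (cq Ce)).map Ce.subtype := by
      rw [Subgroup.commutator_le]
      intro y hy α hα
      have hyW : cq Ce ⟨y, hy.2⟩ ∈ centralizerPPrimeCore 2 (cq Ce ⟨a, hACe ha⟩) :=
        map_le_core (hACe ha) ha2 (W := Y ⊓ Ce) (inf_le_left.trans hYO) ⟨⟨y, hy.2⟩, hy, rfl⟩
      refine ⟨⟨y, hy.2⟩ * ⟨α, hACe (mem_sup_left hα)⟩ * ⟨y, hy.2⟩⁻¹ *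
        ⟨α, hACe (mem_sup_left hα)⟩⁻¹, ⟨?_, ?_⟩, by simp [commutatorElement_def]⟩
      · show cq Ce _ ∈ centralizer (U True)
        rw [map_mul, map_mul, map_mul, map_inv, map_inv]
        refine comm_mem_centralizer ?_ ?_
        · refine mem_centralizer_iff.mpr ?_
          rintro v ⟨F, hF, hFb, hv⟩
          exact mem_centralizer_iff.mp ((hFb.mpr trivial) ⟨α, hACe (mem_sup_left hα)⟩ hα) v hv
        · rintro v ⟨F, hF, hFb, hv⟩
          refine ⟨F, hF, hFb, conj_mem_of_normalizer ?_ hv⟩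
          by_cases h2 : cq Ce ⟨a, hACe ha⟩ ∈ normalizer (F : Set _)
          · exact centralizerPPrimeCore_le_normalizer hF hOK htK h2 hyW
          · exact Subgroup.centralizer_le_normalizer _
              (centralizerPPrimeCore_le_centralizer_of_moving hF hOK htK h2 hyW)
      · show cq Ce _ ∈ centralizer (pCore 2 (↥Ce ⧸ pPrimeCore 2 ↥Ce) : Set _)
        rw [map_mul, map_mul, map_mul, map_inv, map_inv]
        have hy2 := centralizerPPrimeCore_le_centralizer_pCore htK hyW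
        exact mul_conj_inv_mem (pCore_normal 2 _) _ hy2
    intro y hy
    obtain ⟨w, hw, rfl⟩ := hle hy
    exact ⟨w.2, hw⟩
  -- the key relation
  have key : ∀ (p d : ↥H), (p : G) ∈ P →
      f (p * (d * ⟨a, haH⟩ * d⁻¹ * ⟨a, haH⟩⁻¹) * p⁻¹ * (d * ⟨a, haH⟩ * d⁻¹ * ⟨a, haH⟩⁻¹)⁻¹) ∈ N := by
    intro p d hp
    set x : ↥H := d * ⟨a, haH⟩ * d⁻¹ * ⟨a, haH⟩⁻¹ with hxdef
    obtain ⟨hy, hp1, hp2⟩ := hpC p hp.2
    have hfp : f p = cq Ce ⟨p, hy⟩ := rfl
    rw [← hfp] at hp1 hp2
    have hx2 : f x ∈ centralizer (U False) := by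
      obtain ⟨a1, ha1', a2, ha2', hae⟩ := Coprime.exists_mul_of_mem_sup (N := A) (H := B)
        (fun b hb => Subgroup.centralizer_le_normalizer _ (mem_centralizer_iff.mpr fun x hx =>
          h.comm x (mem_sup_left hx) b (mem_sup_right hb))) ha
      have ha2H : a2 ∈ H := mem_centralizer_iff.mpr fun x hx =>
        h.comm x (mem_sup_left hx) a2 (mem_sup_right ha2')
      have hxe : x = d * ⟨a2, ha2H⟩ * d⁻¹ * ⟨a2, ha2H⟩⁻¹ := by
        apply Subtype.ext
        simp only [hxdef, Subgroup.coe_mul, Subgroup.coe_inv]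
        have h1 : a1 * (d : G) = d * a1 := mem_centralizer_iff.mp d.2 a1 ha1'
        have h2 : a1 * a2 = a2 * a1 := h.comm a1 (mem_sup_left ha1') a2 (mem_sup_right ha2')
        have h3 : a1 * (d : G)⁻¹ = (d : G)⁻¹ * a1 := mem_centralizer_iff.mp (inv_mem d.2) a1 ha1'
        calc (d : G) * a * (d : G)⁻¹ * a⁻¹ = d * (a2 * (a1 * (d : G)⁻¹)) * (a2 * a1)⁻¹ := by
              rw [hae, h2]; group
          _ = d * a2 * (d : G)⁻¹ * a2⁻¹ := by rw [h3]; group
      rw [hxe, map_mul, map_mul, map_mul, map_inv, map_inv]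
      refine comm_mem_centralizer ?_ (fun v hv => hUinv' False d v hv)
      refine mem_centralizer_iff.mpr ?_
      rintro v ⟨F, hF, hFb, hv⟩
      have hB : Cent B Ce F := (h.sep e hea he1 F hF).resolve_left hFb.mp
      exact mem_centralizer_iff.mp
        (hB ⟨a2, hHCe ha2H⟩ ha2') v hv
    rw [hNdef, map_mul, map_mul, map_mul, map_inv, map_inv]
    have hcomp : ∀ F : Subgroup (↥Ce ⧸ pPrimeCore 2 ↥Ce), IsComponent F → ∀ v ∈ F,
        Commute v (f p * f x * (f p)⁻¹ * (f x)⁻¹) := by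
      intro F hF v hv
      by_cases hA : Cent A Ce F
      · have := inv_mem (comm_mem_centralizer hp1 (fun v hv => hUinv' True x v hv))
        have hm : f p * f x * (f p)⁻¹ * (f x)⁻¹ ∈ centralizer (U True) := by
          simpa [mul_assoc] using this
        exact mem_centralizer_iff.mp hm v ⟨F, hF, iff_of_true hA trivial, hv⟩
      · have := comm_mem_centralizer hx2 (fun v hv => hUinv' False p v hv)
        exact mem_centralizer_iff.mp this v ⟨F, hF, iff_of_false hA not_false, hv⟩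
    rw [generalizedFittingSubgroup, fittingSubgroup_eq_pCore 2 hOK]
    have hle : layer (↥Ce ⧸ pPrimeCore 2 ↥Ce) ⊔ pCore 2 (↥Ce ⧸ pPrimeCore 2 ↥Ce) ≤
        centralizer ({f p * f x * (f p)⁻¹ * (f x)⁻¹} : Set _) := by
      refine sup_le (layer_le_iff.mpr fun F hF v hv =>
        mem_centralizer_singleton_iff.mpr (hcomp F hF v hv)) ?_
      intro v hv
      haveI : (pCore 2 (↥Ce ⧸ pPrimeCore 2 ↥Ce)).Normal := pCore_normal 2 _
      have hm : f p * f x * (f p)⁻¹ * (f x)⁻¹ ∈
          centralizer (pCore 2 (↥Ce ⧸ pPrimeCore 2 ↥Ce) : Set _) := by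
        exact mul_conj_inv_mem (pCore_normal 2 _) _ hp2
      exact mem_centralizer_singleton_iff.mpr (mem_centralizer_iff.mp hm v hv)
    exact mem_centralizer_iff.mpr fun v hv => mem_centralizer_singleton_iff.mp (hle hv)
  -- the image of the preimage of `N` is a normal two-group
  set D := (N.comap f).map (cq H) with hDdef
  haveI : (generalizedFittingSubgroup (↥Ce ⧸ pPrimeCore 2 ↥Ce)).Normal := inferInstance
  haveI hNn : N.Normal := by rw [hNdef]; infer_instance
  haveI hDn : D.Normal := (hNn.comap f).map _ (QuotientGroup.mk'_surjective _)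
  have hD2 : IsPGroup 2 D := by
    rintro ⟨_, w, hw, rfl⟩
    have hN2 : N ≤ pCore 2 (↥Ce ⧸ pPrimeCore 2 ↥Ce) := by
      rw [← fittingSubgroup_eq_pCore 2 hOK]
      exact centralizer_genFitting_le_fittingSubgroup
    obtain ⟨n, hn⟩ := pCore_isPGroup 2 ⟨f w, hN2 hw⟩
    refine ⟨n, Subtype.ext ?_⟩
    show cq H w ^ 2 ^ n = 1
    rw [← map_pow]
    refine (QuotientGroup.eq_one_iff _).mpr ?_
    have hker : f.ker ≤ pPrimeCore 2 ↥H := by
      refine le_pPrimeCore inferInstance (Nat.Coprime.coprime_dvd_left ?_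
        (pPrimeCore_coprime (G := ↥Ce) 2))
      rw [← Subgroup.card_map_of_injective (f := inclusion hHCe) (inclusion_injective hHCe)]
      refine card_dvd_of_le ?_
      rintro _ ⟨k, hk, rfl⟩
      exact (QuotientGroup.eq_one_iff _).mp hk
    apply hker
    rw [MonoidHom.mem_ker, map_pow]
    exact congrArg Subtype.val hn
  have hmain : (P.subgroupOf H).map (cq H) = ⊥ := by
    refine eq_bot_of_centralizes hOH htH (map_le_core haH ha2 hPO) fun E hE htE hPE htC => ?_
    rintro _ ⟨p, hp, rfl⟩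
    have hpE : cq H p ∈ normalizer (E : Set _) := hPE ⟨p, hp, rfl⟩
    have hDE : ⁅E, D⁆ = ⊥ := IsComponent.commutator_eq_bot_of_solvable hE
      (haveI := hD2.isNilpotent; inferInstance) (by rw [Subgroup.normalizer_eq_top]; exact le_top)
    set t := cq H ⟨a, haH⟩ with ht
    have hgen : ∀ v ∈ E, v * t * v⁻¹ * t⁻¹ ∈ E := fun v hv => by
      rw [mul_assoc, mul_assoc, ← mul_assoc t]
      exact mul_mem hv ((mem_normalizer_iff.mp htE _).mp (inv_mem hv))
    have hbase : ∀ v ∈ E, cq H p * (v * t * v⁻¹ * t⁻¹) * (cq H p)⁻¹ * (v * t * v⁻¹ * t⁻¹)⁻¹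
        ∈ (center ↥E).map E.subtype := by
      intro v hv
      obtain ⟨d, rfl⟩ := QuotientGroup.mk'_surjective _ v
      refine mem_map_center_iff.mpr ⟨mul_mem ((mem_normalizer_iff.mp hpE _).mp (hgen _ hv))
        (inv_mem (hgen _ hv)), fun m hm => ?_⟩
      refine Components.commute_of_commutator_eq_bot hDE hm ⟨_, key p d hp, ?_⟩
      simp only [map_mul, map_inv, ht]
    -- the elements moved centrally form a subgroup
    let S : Subgroup (↥H ⧸ pPrimeCore 2 ↥H) :=
      { carrier := {v | v ∈ E ∧ cq H p * v * (cq H p)⁻¹ * v⁻¹ ∈ (center ↥E).map E.subtype}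
        one_mem' := ⟨one_mem _, by simp⟩
        mul_mem' := by
          rintro v w ⟨hv, hv'⟩ ⟨hw, hw'⟩
          refine ⟨mul_mem hv hw, ?_⟩
          have hc := (mem_map_center_iff.mp hw').2 v hv
          have e1 : cq H p * (v * w) * (cq H p)⁻¹ * (v * w)⁻¹ =
              (cq H p * v * (cq H p)⁻¹ * v⁻¹) *
                (v * (cq H p * w * (cq H p)⁻¹ * w⁻¹) * v⁻¹) := by group
          rw [e1, hc, mul_inv_cancel_right]
          exact mul_mem hv' hw'
        inv_mem' := by
          rintro v ⟨hv, hv'⟩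
          refine ⟨inv_mem hv, ?_⟩
          have hc := (mem_map_center_iff.mp (inv_mem hv')).2 v⁻¹ (inv_mem hv)
          have e1 : cq H p * v⁻¹ * (cq H p)⁻¹ * v⁻¹⁻¹ =
              v⁻¹ * (cq H p * v * (cq H p)⁻¹ * v⁻¹)⁻¹ * v := by group
          rw [e1, hc, inv_mul_cancel_right]
          exact inv_mem hv' }
    have ht2 : t ^ 2 = 1 := by
      have h4 := pow_orderOf_eq_one t
      rwa [htH] at h4
    have ht2' : t ^ (2 : ℤ) = 1 := by exact_mod_cast ht2
    have hET : ⁅E, zpowers t⁆ ≤ S := by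
      rw [Subgroup.commutator_le]
      intro v hv s hs
      obtain ⟨i, rfl⟩ := mem_zpowers_iff.mp hs
      rcases Int.even_or_odd i with hi | hi
      · obtain ⟨k, rfl⟩ := hi
        rw [← two_mul, zpow_mul, ht2', one_zpow, commutatorElement_one_right]
        exact one_mem _
      · obtain ⟨k, rfl⟩ := hi
        rw [zpow_add, zpow_mul, ht2', one_zpow, one_mul, zpow_one, commutatorElement_def]
        exact ⟨hgen v hv, hbase v hv⟩
    have hETE : ⁅E, zpowers t⁆ ≤ E :=
      (Subgroup.le_normalizer_iff_commutator_le_left.mp (zpowers_le.mpr htE))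
    haveI : ((⁅E, zpowers t⁆).subgroupOf E).Normal :=
      normal_subgroupOf_of_le_normalizer (Subgroup.normalizer_commutator_ge_left _ _)
    refine mem_centralizer_of_perfect (IsComponent.commutator_self hE) fun v hv => ?_
    rcases IsQuasisimple.normal_eq_top_or_le_center hE.2 ((⁅E, zpowers t⁆).subgroupOf E) with h1 | h1
    · exact (hET ((subgroupOf_eq_top.mp h1) hv)).2
    · refine absurd (mem_centralizer_of_perfect (IsComponent.commutator_self hE) fun w hw => ?_) htC
      have hmem := commutator_mem_commutator hw (mem_zpowers t)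
      refine ⟨⟨⁅w, t⁆, hETE hmem⟩⁻¹, inv_mem (h1 hmem), ?_⟩
      show (⁅w, t⁆)⁻¹ = _
      rw [commutatorElement_def]; group
  intro p hp
  have : cq H ⟨p, hPH hp⟩ = 1 := by
    rw [← mem_bot, ← hmain]
    exact ⟨⟨p, hPH hp⟩, hp, rfl⟩
  exact ⟨⟨p, hPH hp⟩, (QuotientGroup.eq_one_iff _).mp this, rfl⟩

/-- The fixed points of a factor lie in the core of the centralizer. -/
theorem Pair.part_inf_centralizer_le (h : Pair A B) {a : G} (ha : a ∈ A ⊔ B) (ha1 : a ≠ 1) :
    part A a ⊓ centralizer (A : Set G) ≤ qCore A := by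
  have hAO : A ≤ normalizer (centralizerPPrimeCore 2 a : Set G) :=
    le_sup_left.trans (h.le_normalizer_core ha)
  set Y := ⁅centralizerPPrimeCore 2 a, A⁆ with hY
  have hYO : Y ≤ centralizerPPrimeCore 2 a := Coprime.commutator_le_of_le_normalizer hAO
  have hodd := odd_card_core (G := G) a
  have hYY : ⁅Y, A⁆ = Y := Coprime.commutator_commutator_eq hAO
    (CoprimeGen.odd_coprime h.isPGroup hodd) (Or.inl h.solvable)
  have hgen : Y ⊓ centralizer (A : Set G) ≤ qCore A := by
    refine le_trans (CoprimeGen.centralizer_le_gen A A h.isPGroup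
      (fun x hx y hy => h.comm x (mem_sup_left hx) y (mem_sup_left hy)) le_rfl
      (Nat.card Y) Y le_rfl (CoprimeGen.odd_of_le hYO hodd)
      (Subgroup.normalizer_commutator_ge_right _ _) hYY) (iSup_le ?_)
    rintro ⟨B₀, hB₀, hcyc⟩
    by_cases hb : B₀ = ⊥
    · exfalso
      subst hb
      haveI : ((⊥ : Subgroup G).subgroupOf A).Normal := normal_subgroupOf_trans_left inferInstance
      obtain ⟨g, hg⟩ := hcyc.exists_generator
      obtain ⟨g, rfl⟩ := QuotientGroup.mk_surjective g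
      have hcard : Nat.card (↥A ⧸ (⊥ : Subgroup G).subgroupOf A) = 4 := by
        rw [← Subgroup.index_eq_card, Subgroup.bot_subgroupOf, Subgroup.index_bot, h.cardA]
      have h2 : (g : ↥A ⧸ (⊥ : Subgroup G).subgroupOf A) ^ 2 = 1 := by
        rw [← QuotientGroup.mk_pow, show g ^ 2 = 1 from Subtype.ext
          (by rw [Subgroup.coe_pow, pow_two]; exact h.sq g (mem_sup_left g.2))]
        rfl
      have h3 := orderOf_dvd_of_pow_eq_one h2
      rw [orderOf_eq_card_of_forall_mem_zpowers hg, hcard] at h3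
      norm_num at h3
    · obtain ⟨⟨e, he⟩, he1⟩ := (Subgroup.ne_bot_iff_exists_ne_one).mp hb
      refine le_trans ?_ (h.piece_le ha ha1 (hB₀ he) (fun h1 => he1 (Subtype.ext h1)))
      exact inf_le_inf_left _ (Subgroup.commutator_mono (inf_le_inf_left _
        (centralizer_le (Set.singleton_subset_iff.mpr he))) le_rfl)
  rintro t ⟨ht, htA⟩
  obtain ⟨y, hy, z, hz, rfl⟩ := Coprime.exists_mul_of_mem_sup
    (inf_le_left.trans (Subgroup.normalizer_commutator_ge_left _ A)) ht
  refine mul_mem (hgen ⟨hy, ?_⟩) hz.2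
  have := Subgroup.mul_mem _ htA (Subgroup.inv_mem _ (qCore_le A hz.2))
  rwa [mul_inv_cancel_right] at this

theorem part_conj {b x : G} {a : G} (hb : b ∈ centralizer (A : Set G))
    (hba : b ∈ centralizer ({a} : Set G)) (hx : x ∈ part A a) : b * x * b⁻¹ ∈ part A a := by
  have h1 : b ∈ normalizer (centralizerPPrimeCore 2 a : Set G) :=
    centralizer_le_normalizer_centralizerPPrimeCore a hba
  have hb' : ∀ α ∈ A, b * α * b⁻¹ = α := fun α hα => by
    rw [← mem_centralizer_iff.mp hb α hα, mul_inv_cancel_right]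
  have hle : (part A a).map (MulAut.conj b).toMonoidHom ≤ part A a := by
    rw [part, Subgroup.map_sup, Subgroup.map_commutator]
    refine sup_le_sup (Subgroup.commutator_mono ?_ ?_) ?_
    · rintro _ ⟨y, hy, rfl⟩; exact (mem_normalizer_iff.mp h1 y).mp hy
    · rintro _ ⟨y, hy, rfl⟩
      show b * y * b⁻¹ ∈ A
      rw [hb' y hy]; exact hy
    · rintro _ ⟨y, hy, rfl⟩
      exact ⟨(mem_normalizer_iff.mp h1 y).mp hy.1, qCore_conj hb hy.2⟩
  exact hle ⟨x, hx, rfl⟩

/-- The value of the functor. -/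
def theta (A B : Subgroup G) (a : G) : Subgroup G := part A a ⊓ part B a

theorem Pair.centralizes_component (h : Pair A B) {a : G} (ha : a ∈ A ⊔ B) (ha1 : a ≠ 1)
    {C : Subgroup G} (hAC : A ≤ C) {X : Subgroup G} (hX : X ≤ part A a) (hXb : X ≤ C)
    (hAX : A ≤ normalizer (X : Set G))
    {E : Subgroup (↥C ⧸ pPrimeCore 2 ↥C)}
    (hE : IsComponent E) (hA : Cent A C E)
    (hXE : (X.subgroupOf C).map (cq C) ≤ normalizer (E : Set _)) :
    (X.subgroupOf C).map (cq C) ≤ centralizer (E : Set _) := by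
  haveI : Fact (Nat.Prime 2) := ⟨Nat.prime_two⟩
  have hodd : Odd (Nat.card X) :=
    CoprimeGen.odd_of_le (hX.trans (h.part_le_core ha)) (odd_card_core a)
  have hOC : pPrimeCore 2 (↥C ⧸ pPrimeCore 2 ↥C) = ⊥ := pPrimeCore_quotient_eq_bot 2
  have hR : X ≤ ((centralizer (E : Set _)).comap (cq C)).map C.subtype := by
    rw [← Coprime.commutator_sup_centralizer_eq hAX (CoprimeGen.odd_coprime h.isPGroup hodd)
      (Or.inl h.solvable)]
    refine sup_le ?_ ?_
    · rw [Subgroup.commutator_le]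
      intro y hy α hα
      refine ⟨⟨y, hXb hy⟩ * ⟨α, hAC hα⟩ * ⟨y, hXb hy⟩⁻¹ * ⟨α, hAC hα⟩⁻¹, ?_,
        by simp [commutatorElement_def]⟩
      show cq C _ ∈ centralizer (E : Set _)
      rw [map_mul, map_mul, map_mul, map_inv, map_inv]
      exact comm_mem_centralizer (hA ⟨α, hAC hα⟩ hα)
        fun v hv => conj_mem_of_normalizer (hXE ⟨⟨y, hXb hy⟩, hy, rfl⟩) hv
    · rintro c ⟨hcX, hcA⟩
      refine ⟨⟨c, hXb hcX⟩, ?_, rfl⟩
      have hcQ : c ∈ qCore A := h.part_inf_centralizer_le ha ha1 ⟨hX hcX, hcA⟩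
      set Q := ((qCore A).subgroupOf C).map (cq C) with hQ
      have hQodd : (Nat.card Q).Coprime 2 := by
        refine Nat.Coprime.coprime_dvd_left (card_map_dvd _ _)
          (Nat.Coprime.coprime_dvd_left (card_comap_dvd_of_injective _ _ C.subtype_injective) ?_)
        rw [qCore, Subgroup.card_map_of_injective Subtype.val_injective]
        exact pPrimeCore_coprime 2
      have hEQ : E ≤ normalizer (Q : Set _) := by
        intro v hv
        obtain ⟨u₀, rfl⟩ := QuotientGroup.mk'_surjective _ v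
        obtain ⟨n, hn, hc⟩ := Coprime.exists_mem_centralizer_of_fixed_coset
          (A := A.subgroupOf C) (N := pPrimeCore 2 ↥C)
          (by rw [Subgroup.normalizer_eq_top]; exact le_top) (by
            rw [Nat.card_congr (subgroupOfEquivOfLe hAC).toEquiv, h.cardA]
            exact Nat.Coprime.pow_left 2 (pPrimeCore_coprime 2).symm)
          (Or.inl (Coprime.isSolvable_subgroupOf h.solvable))
          (k := u₀) (by rw [Subgroup.normalizer_eq_top]; trivial) (fun α hα => by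
            refine (QuotientGroup.eq_one_iff _).mp ?_
            show cq C (α * u₀ * α⁻¹ * u₀⁻¹) = 1
            rw [map_mul, map_mul, map_mul, map_inv, map_inv,
              ← mem_centralizer_iff.mp (hA α hα) _ hv]
            group)
        have hu : ((u₀ * n : ↥C) : G) ∈ centralizer (A : Set G) := mem_centralizer_iff.mpr
          fun x hx => congrArg Subtype.val (mem_centralizer_iff.mp hc ⟨x, hAC hx⟩ hx)
        have hv' : cq C u₀ = cq C (u₀ * n) := by
          rw [map_mul, show cq C n = 1 from (QuotientGroup.eq_one_iff _).mpr hn, mul_one]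
        rw [hv']
        refine le_normalizer_map _ ⟨u₀ * n, mem_normalizer_iff.mpr fun z => ⟨fun hz => ?_,
          fun hz => ?_⟩, rfl⟩
        · exact qCore_conj hu hz
        · have := qCore_conj (inv_mem hu) hz
          simpa [mem_subgroupOf, mul_assoc] using this
      have hcQ' : cq C ⟨c, hXb hcX⟩ ∈ Q := ⟨⟨c, hXb hcX⟩, hcQ, rfl⟩
      show cq C ⟨c, hXb hcX⟩ ∈ centralizer (E : Set _)
      refine mem_centralizer_of_perfect (IsComponent.commutator_self hE) fun v hv => ?_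
      haveI : (Q.subgroupOf E).Normal :=
        ⟨fun z hz g => (mem_normalizer_iff.mp (hEQ g.2) _).mp hz⟩
      rcases IsQuasisimple.normal_eq_top_or_le_center hE.2 (Q.subgroupOf E) with h1 | h1
      · exfalso
        exact Nat.prime_two.coprime_iff_not_dvd.mp hQodd.symm
          ((IsComponent.dvd_card hE 2 hOC).trans (card_dvd_of_le (subgroupOf_eq_top.mp h1)))
      · have hmE : cq C ⟨c, hXb hcX⟩ * v * (cq C ⟨c, hXb hcX⟩)⁻¹ * v⁻¹ ∈ E :=
          mul_mem ((mem_normalizer_iff.mp (hXE ⟨⟨c, hXb hcX⟩, hcX, rfl⟩) v).mp hv) (inv_mem hv)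
        refine ⟨⟨_, hmE⟩, h1 ?_, rfl⟩
        have hmQ := Q.mul_mem hcQ' ((mem_normalizer_iff.mp (hEQ hv) _).mp (Q.inv_mem hcQ'))
        rw [← mul_assoc, ← mul_assoc] at hmQ
        exact hmQ
  rintro _ ⟨x, hx, rfl⟩
  obtain ⟨w, hw, hwx⟩ := hR (show (x : G) ∈ X from hx)
  rwa [← Subtype.ext hwx]

theorem Pair.theta_conj (h : Pair A B) {a b x : G} (ha : a ∈ A ⊔ B) (hb : b ∈ A ⊔ B)
    (hx : x ∈ theta A B a) : b * x * b⁻¹ ∈ theta A B a :=
  ⟨part_conj (mem_centralizer_iff.mpr fun y hy => h.comm y (mem_sup_left hy) b hb)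
      (h.le_centralizer ha hb) hx.1,
    part_conj (mem_centralizer_iff.mpr fun y hy => h.comm y (mem_sup_right hy) b hb)
      (h.le_centralizer ha hb) hx.2⟩

theorem Pair.le_normalizer_inf (h : Pair A B) {a b : G} (ha : a ∈ A ⊔ B) (hb : b ∈ A ⊔ B) :
    A ⊔ B ≤ normalizer ((theta A B a ⊓ centralizer ({b} : Set G) : Subgroup G) : Set G) := by
  have hone : ∀ c ∈ A ⊔ B, ∀ x ∈ theta A B a ⊓ centralizer ({b} : Set G),
      c * x * c⁻¹ ∈ theta A B a ⊓ centralizer ({b} : Set G) := fun c hc x hx =>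
    ⟨h.theta_conj ha hc hx.1, Subgroup.mul_mem _ (Subgroup.mul_mem _ (h.le_centralizer hb hc) hx.2)
      (Subgroup.inv_mem _ (h.le_centralizer hb hc))⟩
  intro c hc
  refine mem_normalizer_iff.mpr fun x => ⟨hone c hc x, fun hx => ?_⟩
  have := hone c⁻¹ (inv_mem hc) _ hx
  simpa [mul_assoc] using this

theorem Pair.le_part (h : Pair A B) {a b : G} (ha : a ∈ A ⊔ B) (ha1 : a ≠ 1) {X : Subgroup G}
    (hXb : X ≤ centralizerPPrimeCore 2 b) (hX : X ≤ part A a) (hAX : A ≤ normalizer (X : Set G)) :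
    X ≤ part A b := by
  rw [← Coprime.commutator_sup_centralizer_eq hAX (CoprimeGen.odd_coprime h.isPGroup
    (CoprimeGen.odd_of_le hXb (odd_card_core b))) (Or.inl h.solvable)]
  exact sup_le_sup (Subgroup.commutator_mono hXb le_rfl)
    (le_inf (inf_le_left.trans hXb) ((inf_le_inf_right _ hX).trans (h.part_inf_centralizer_le ha ha1)))

/-- Balance. -/
theorem Pair.balance (h : Pair A B) {a b : G} (ha : a ∈ A ⊔ B) (ha1 : a ≠ 1) (hb : b ∈ A ⊔ B)
    (hb1 : b ≠ 1) : theta A B a ⊓ centralizer ({b} : Set G) ≤ theta A B b := by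
  haveI : Fact (Nat.Prime 2) := ⟨Nat.prime_two⟩
  set X := theta A B a ⊓ centralizer ({b} : Set G) with hXdef
  set C := centralizer ({b} : Set G) with hC
  have hn := h.le_normalizer_inf ha hb
  have hX1 : X ≤ part A a := inf_le_left.trans inf_le_left
  have hX2 : X ≤ part B a := inf_le_left.trans inf_le_right
  have hXC : X ≤ C := inf_le_right
  have haC : a ∈ C := h.le_centralizer hb ha
  have ha2 := h.orderOf_eq ha ha1
  have hbot : (X.subgroupOf C).map (cq C) = ⊥ := by
    refine eq_bot_of_centralizes (pPrimeCore_quotient_eq_bot 2) (orderOf_cq haC ha2)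
      (map_le_core haC ha2 (hX1.trans (h.part_le_core ha))) fun E hE _ hXE _ => ?_
    rcases h.sep b hb hb1 E hE with hc | hc
    · exact h.centralizes_component ha ha1 (le_sup_left.trans (h.le_centralizer hb)) hX1 hXC (le_sup_left.trans hn) hE hc hXE
    · exact h.symm.centralizes_component (sup_comm A B ▸ ha) ha1 (le_sup_right.trans (h.le_centralizer hb)) hX2 hXC
        (le_sup_right.trans hn) hE hc hXE
  have hXb : X ≤ centralizerPPrimeCore 2 b := fun x hx => by
    have : cq C ⟨x, hXC hx⟩ = 1 := by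
      rw [← mem_bot, ← hbot]
      exact ⟨⟨x, hXC hx⟩, hx, rfl⟩
    exact ⟨⟨x, hXC hx⟩, (QuotientGroup.eq_one_iff _).mp this, rfl⟩
  exact le_inf (h.le_part ha ha1 hXb hX1 (le_sup_left.trans hn))
    (h.symm.le_part (sup_comm A B ▸ ha) ha1 hXb hX2 (le_sup_right.trans hn))

/-- A core-separated pair gives a pair in the sense used here. -/
theorem pair_of_isCoreSeparated {A₁ A₂ : Subgroup G} (hcs : IsCoreSeparated A₁ A₂) :
    Pair A₁ A₂ := by
  haveI : Fact (Nat.Prime 2) := ⟨Nat.prime_two⟩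
  obtain ⟨⟨hc1, hs1⟩, ⟨hc2, hs2⟩, h4a, h4b, -, -, hcomm, hsep⟩ := hcs
  have hn : A₂ ≤ normalizer (A₁ : Set G) := fun y hy =>
    Subgroup.centralizer_le_normalizer _ (mem_centralizer_iff.mpr fun x hx => hcomm x hx y hy)
  have hc11 : ∀ x ∈ A₁, ∀ y ∈ A₁, Commute x y := fun x hx y hy =>
    congrArg Subtype.val (hc1.is_comm.comm (⟨x, hx⟩ : ↥A₁) ⟨y, hy⟩)
  have hc22 : ∀ x ∈ A₂, ∀ y ∈ A₂, Commute x y := fun x hx y hy =>
    congrArg Subtype.val (hc2.is_comm.comm (⟨x, hx⟩ : ↥A₂) ⟨y, hy⟩)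
  refine ⟨?_, ?_, h4a, h4b, ?_⟩
  · intro x hx y hy
    obtain ⟨x1, hx1, x2, hx2, rfl⟩ := Coprime.exists_mul_of_mem_sup hn hx
    obtain ⟨y1, hy1, y2, hy2, rfl⟩ := Coprime.exists_mul_of_mem_sup hn hy
    exact (((hc11 x1 hx1 y1 hy1).mul_right (hcomm x1 hx1 y2 hy2)).mul_left
      ((Commute.symm (hcomm y1 hy1 x2 hx2)).mul_right (hc22 x2 hx2 y2 hy2))).eq
  · intro x hx
    obtain ⟨x1, hx1, x2, hx2, rfl⟩ := Coprime.exists_mul_of_mem_sup hn hx
    rw [← pow_two, (Commute.mul_pow (hcomm x1 hx1 x2 hx2) 2), hs1 x1 hx1, hs2 x2 hx2, one_mul]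
  · intro e he he1 E hE
    obtain ⟨L, ⟨hL, hmap⟩, -⟩ := existsUnique_pComponent 2 hE
    have key : ∀ A : Subgroup G,
        ⁅L.map (centralizer ({e} : Set G)).subtype, A⁆ ≤ centralizerPPrimeCore 2 e →
        Cent A (centralizer ({e} : Set G)) E := by
      intro A hA α hα
      refine mem_centralizer_iff.mpr fun v hv => ?_
      rw [SetLike.mem_coe, ← hmap] at hv
      obtain ⟨l, hl, rfl⟩ := hv
      obtain ⟨w, hw, hwe⟩ := hA (commutator_mem_commutator (mem_map_of_mem _ hl) hα)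
      have : w = l * α * l⁻¹ * α⁻¹ := Subtype.ext hwe
      have h1 : cq (centralizer ({e} : Set G)) (l * α * l⁻¹ * α⁻¹) = 1 :=
        (QuotientGroup.eq_one_iff _).mpr (this ▸ hw)
      rw [map_mul, map_mul, map_mul, map_inv, map_inv, mul_inv_eq_one, mul_inv_eq_iff_eq_mul] at h1
      exact h1
    exact (hsep e he he1 L hL).imp (key A₁) (key A₂)

theorem isSignalizerFunctor (h : Pair A B) :
    IsSignalizerFunctor 2 (A ⊔ B) (theta A B) := by
  haveI : Fact (Nat.Prime 2) := ⟨Nat.prime_two⟩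
  refine ⟨fun a ha _ => inf_le_left.trans ((h.part_le_core ha).trans
    (centralizerPPrimeCore_le_centralizer a)), fun a ha _ hd => ?_,
    fun a ha _ b hb x hx => h.theta_conj ha hb hx,
    fun a ha ha1 b hb hb1 => h.balance ha ha1 hb hb1⟩
  exact Nat.prime_two.coprime_iff_not_dvd.mp (coprime_card_centralizerPPrimeCore a).symm
    (hd.trans (card_dvd_of_le (inf_le_left.trans (h.part_le_core ha))))

end Cfsg.Agent.Lib.CoreSep
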